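import Mathlib

/-!
# Exponents used in the short presentation of `SL₂`
-/

set_option autoImplicit false

open Polynomial

namespace CfsgLib.Known.SL2Bounded

variable {F : Type*} [Field F] [Finite F] {p : ℕ} [Fact p.Prime] [Algebra (ZMod p) F] {ω : Fˣ}

theorem sq_eq_pow (hcyc : ∀ x : Fˣ, x ∈ Subgroup.zpowers ω) {y : F} (hy : y ≠ 0) :
    ∃ k : ℕ, y ^ 2 = ((ω : F) ^ 2) ^ k := by
  obtain ⟨k, hk⟩ : ∃ k : ℕ, ω ^ k = Units.mk0 y hy := mem_powers_iff_mem_zpowers.2 (hcyc _)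
  refine ⟨k, ?_⟩
  rw [← pow_mul, mul_comm, pow_mul, ← Units.val_pow_eq_pow_val, hk, Units.val_mk0]

theorem exists_rep (hcyc : ∀ x : Fˣ, x ∈ Subgroup.zpowers ω) (u : F) :
    ∃ P : (ZMod p)[X], aeval ((ω : F) ^ 2) P = u := by
  have hs : ∀ y : F, y ^ 2 ∈ (aeval (R := ZMod p) ((ω : F) ^ 2)).range := fun y => by
    rcases eq_or_ne y 0 with rfl | hy
    · simp
    · obtain ⟨k, hk⟩ := sq_eq_pow hcyc hy
      exact ⟨X ^ k, by simp [hk]⟩
  by_cases h2 : (2 : F) = 0
  · have hr : ringChar F = 2 := CharP.ringChar_of_prime_eq_zero Nat.prime_two (by simpa using h2)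
    obtain ⟨y, hy⟩ := FiniteField.isSquare_of_char_two hr u
    rw [hy, ← pow_two]
    exact hs y
  · have e : ((u + 1) / 2) ^ 2 - ((u - 1) / 2) ^ 2 = u := by
      rw [div_pow, div_pow, ← sub_div, div_eq_iff (pow_ne_zero 2 h2)]; ring
    exact e ▸ sub_mem (hs ((u + 1) / 2)) (hs ((u - 1) / 2))

theorem deg_eq_one_of_algebraMap {z : F} (c : ZMod p) (hz : z = algebraMap (ZMod p) F c) :
    (minpoly (ZMod p) z).natDegree = 1 := by
  rw [hz, minpoly.eq_X_sub_C, natDegree_X_sub_C]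

omit [Finite F] in
theorem charP_F : CharP F p := charP_of_injective_algebraMap (algebraMap (ZMod p) F).injective p

theorem exists_params (hcyc : ∀ x : Fˣ, x ∈ Subgroup.zpowers ω)
    (hd : 2 < (minpoly (ZMod p) ((ω : F) ^ 2)).natDegree) :
    ∃ i j : ℕ, ((ω : F) ^ 2) ^ j = 1 + ((ω : F) ^ 2) ^ i ∧
      (∃ Q : (ZMod p)[X], aeval (((ω : F) ^ 2) ^ i) Q = (ω : F) ^ 2) ∧ (p = 2 → i = 1) := by
  have := charP_F (F := F) (p := p)
  have hz1 : (ω : F) ^ 2 ≠ 1 := fun e => by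
    rw [deg_eq_one_of_algebraMap 1 (e.trans (map_one _).symm)] at hd; omega
  rcases eq_or_ne p 2 with hp | hp
  · subst hp
    have hne : 1 + (ω : F) ^ 2 ≠ 0 := fun e => hz1 (by
      rw [eq_neg_of_add_eq_zero_right e, CharTwo.neg_eq])
    obtain ⟨y, hy⟩ := FiniteField.isSquare_of_char_two (ringChar.eq F 2) (1 + (ω : F) ^ 2)
    have hy0 : y ≠ 0 := by rintro rfl; exact hne (by simpa using hy)
    obtain ⟨j, hj⟩ := sq_eq_pow hcyc hy0
    refine ⟨1, j, ?_, ⟨X, ?_⟩, fun _ => rfl⟩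
    · rw [← hj, pow_one, hy, pow_two]
    · simp
  have h2 : (2 : F) ≠ 0 := fun e => hp ((Nat.prime_dvd_prime_iff_eq Fact.out Nat.prime_two).1
    ((CharP.cast_eq_zero_iff F p 2).1 (by exact_mod_cast e)))
  obtain ⟨z, hz⟩ : ∃ z, z = (ω : F) ^ 2 := ⟨_, rfl⟩
  have hz0 : z ≠ 0 := hz ▸ pow_ne_zero 2 ω.ne_zero
  have hw0 := ω.ne_zero
  have hm : ((ω : F) - (ω : F)⁻¹) / 2 ≠ 0 := div_ne_zero (fun e => hz1 (by
    field_simp at e; linear_combination e)) h2
  have hpl : ((ω : F) + (ω : F)⁻¹) / 2 ≠ 0 := div_ne_zero (fun e => by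
    have e1 : (ω : F) ^ 2 = algebraMap (ZMod p) F (-1) := by
      rw [map_neg, map_one]; field_simp at e; linear_combination e
    rw [deg_eq_one_of_algebraMap _ e1] at hd; omega) h2
  obtain ⟨i, hi⟩ := sq_eq_pow hcyc hm
  obtain ⟨j, hj⟩ := sq_eq_pow hcyc hpl
  obtain ⟨T, hT⟩ : ∃ T, T = z ^ i := ⟨_, rfl⟩
  rw [← hz] at hi hj ⊢
  have hsum : 4 * T + 2 = z + z⁻¹ := by
    rw [hT, ← hi, hz]; field_simp; ring
  refine ⟨i, j, ?_, ?_, fun h => absurd h hp⟩
  · rw [← hi, ← hj]; field_simp; ring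
  rw [← hT]
  by_contra hne
  let R : Subalgebra (ZMod p) F := (aeval (R := ZMod p) T).range
  let E : IntermediateField (ZMod p) F := R.toIntermediateField' (Finite.isField_of_domain _)
  have hTE : T ∈ E := ⟨X, aeval_X T⟩
  have hzE : z ∉ E := fun h => hne h
  letI : Fintype E := Fintype.ofFinite E
  obtain ⟨q0, hq0⟩ : ∃ q, q = Fintype.card E := ⟨_, rfl⟩
  obtain ⟨k, hk⟩ : ∃ k, q0 = p ^ k := ⟨Module.finrank (ZMod p) E, by
    rw [hq0, ← Nat.card_eq_fintype_card, Module.natCard_eq_pow_finrank (K := ZMod p), Nat.card_zmod]⟩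
  have hfix : ∀ x ∈ E, x ^ q0 = x := fun x hx => by
    have := congrArg Subtype.val (FiniteField.pow_card (⟨x, hx⟩ : E))
    rw [← hq0] at this
    simpa using this
  have hq1 : 1 < q0 := hq0 ▸ Fintype.one_lt_card
  have hfix' : z ^ q0 ≠ z := fun e => by
    classical
    have hne0 : (X ^ q0 - X : F[X]) ≠ 0 := FiniteField.X_pow_card_sub_X_ne_zero F hq1
    have hsub : insert z ((Finset.univ : Finset E).map ⟨Subtype.val, Subtype.val_injective⟩ : Finset F) ⊆
        (X ^ q0 - X : F[X]).roots.toFinset := by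
      intro x hx
      rw [Multiset.mem_toFinset, mem_roots hne0, IsRoot.def, eval_sub, eval_pow, eval_X, sub_eq_zero]
      rcases Finset.mem_insert.1 hx with rfl | hx
      · exact e
      · obtain ⟨a, -, rfl⟩ := Finset.mem_map.1 hx
        exact hfix _ a.2
    have h1 := Finset.card_le_card hsub
    rw [Finset.card_insert_of_notMem, Finset.card_map, Finset.card_univ, ← hq0] at h1
    · have h2 := le_trans h1 (le_trans (Multiset.toFinset_card_le _) (card_roots' _))
      rw [FiniteField.X_pow_card_sub_X_natDegree_eq F hq1] at h2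
      omega
    · intro hx
      obtain ⟨a, -, ha⟩ := Finset.mem_map.1 hx
      exact hzE (ha ▸ a.2)
  have hfrob : z ^ q0 + (z ^ q0)⁻¹ = z + z⁻¹ := by
    have hs : z + z⁻¹ ∈ E :=
      hsum ▸ add_mem (mul_mem (IntermediateField.natCast_mem E 4) hTE) (IntermediateField.natCast_mem E 2)
    have := hfix _ hs
    rwa [hk, add_pow_char_pow, inv_pow, ← hk] at this
  have hone : z ^ (q0 + 1) = 1 := by
    have hu : z ^ q0 ≠ 0 := pow_ne_zero _ hz0
    have : (z ^ q0 - z) * (z ^ q0 * z - 1) = 0 := by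
      field_simp at hfrob; linear_combination hfrob
    rw [pow_succ]
    exact sub_eq_zero.1 ((mul_eq_zero.1 this).resolve_left (sub_ne_zero.2 hfix'))
  let _ : Fintype F := Fintype.ofFinite F
  have hord : (Fintype.card F - 1) ∣ 2 * (q0 + 1) := by
    classical
    rw [← Fintype.card_units, ← Nat.card_eq_fintype_card, ← orderOf_eq_card_of_forall_mem_zpowers hcyc]
    refine orderOf_dvd_of_pow_eq_one (Units.ext ?_)
    rw [Units.val_pow_eq_pow_val, pow_mul, ← hz, hone, Units.val_one]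
  have hsq : q0 * q0 ≤ Fintype.card F := by
    rw [hq0, ← Fintype.card_prod]
    refine Fintype.card_le_of_injective (fun ab : E × E => (ab.1 : F) + ab.2 * z) fun a b e => ?_
    by_cases h : (a.2 : F) = b.2
    · refine Prod.ext (Subtype.ext ?_) (Subtype.ext h)
      simpa [h] using e
    · refine absurd ?_ hzE
      have : z = ((a.1 : F) - b.1) / ((b.2 : F) - a.2) := by
        rw [eq_div_iff (sub_ne_zero.2 (Ne.symm h))]; linear_combination (norm := ring) -e
      rw [this]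
      exact div_mem (sub_mem a.1.2 b.1.2) (sub_mem b.2.2 a.2.2)
  have hbig : 27 ≤ Fintype.card F := by
    rw [← Nat.card_eq_fintype_card, Module.natCard_eq_pow_finrank (K := ZMod p), Nat.card_zmod]
    calc 27 = 3 ^ 3 := rfl
      _ ≤ p ^ 3 := Nat.pow_le_pow_left (by have := (Fact.out : p.Prime).two_le; omega) 3
      _ ≤ _ := Nat.pow_le_pow_right (Fact.out : p.Prime).pos (le_trans hd (minpoly.natDegree_le _))
  have hle := Nat.le_of_dvd (by omega) hord
  have hle' : Fintype.card F ≤ 2 * (q0 + 1) + 1 := by omega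
  have : q0 ≤ 3 := by
    by_contra h
    nlinarith [Nat.mul_le_mul_right q0 (not_le.1 h)]
  omega

end CfsgLib.Known.SL2Bounded
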