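import Cfsg.Agent.Lib.Known.SL2Bounded.Pres
import Cfsg.Agent.Lib.Known.SL2Bounded.Params

/-!
# Short presentations of `SL₂` and `PSL₂`
-/

set_option autoImplicit false

open Polynomial
open CfsgLib.Known.SLPresentation (upper lower coe_upper coe_lower)

namespace CfsgLib.Known.SL2Bounded

/-- first free generator -/
def ga : FreeGroup (Fin 3) := FreeGroup.of 0
/-- second free generator -/
def gh : FreeGroup (Fin 3) := FreeGroup.of 1
/-- third free generator -/
def gw : FreeGroup (Fin 3) := FreeGroup.of 2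

theorem commute_of_eq_one {G : Type*} [Group G] {a b : G} (h : a * b * a⁻¹ * b⁻¹ = 1) : Commute a b := by
  rw [mul_inv_eq_one, mul_inv_eq_iff_eq_mul] at h
  exact h

theorem pow_eq_one_closure {G : Type*} [Group G] {a h : G} (hc : ∀ m n : ℤ, Commute (cj a h m) (cj a h n))
    (ha : a * a = 1) {p : ℕ} (P : (ZMod p)[X]) : word a h P * word a h P = 1 := by
  obtain ⟨S, hS⟩ : ∃ S, S = Set.range fun n : ℤ => cj a h n := ⟨_, rfl⟩
  have hcl := comm_closure (S := S) (by rw [hS]; rintro _ ⟨m, rfl⟩ _ ⟨n, rfl⟩; exact hc m n)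
  suffices key : ∀ g ∈ Subgroup.closure S, g * g = 1 from
    key _ (word_mem (fun n => Subgroup.subset_closure (hS ▸ ⟨(n : ℤ), rfl⟩)) P)
  intro g hg
  induction hg using Subgroup.closure_induction with
  | mem g hg =>
    rw [hS] at hg
    obtain ⟨n, rfl⟩ := hg
    simp only [cj]
    rw [show h ^ n * a * (h ^ n)⁻¹ * (h ^ n * a * (h ^ n)⁻¹) = h ^ n * (a * a) * (h ^ n)⁻¹ by group, ha,
      mul_one, mul_inv_cancel]
  | one => exact one_mul 1
  | mul x y hx hy ex ey =>
    calc x * y * (x * y) = x * (y * x) * y := by group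
      _ = (x * x) * (y * y) := by rw [(hcl y hy x hx).eq]; group
      _ = 1 := by rw [ex, ey, one_mul]
  | inv x _ ex => rw [← mul_inv_rev, ex, inv_one]

variable {F : Type*} [Field F] {p : ℕ} [Fact p.Prime] [Algebra (ZMod p) F]

/-- images of the generators -/
def gens (ω : Fˣ) : Fin 3 → Matrix.SpecialLinearGroup (Fin 2) F := ![upper 1, diagHom ω, weyl]

/-- evaluation of words in `SL₂` -/
def ev (ω : Fˣ) : FreeGroup (Fin 3) →* Matrix.SpecialLinearGroup (Fin 2) F := FreeGroup.lift (gens ω)

theorem ev_ga (ω : Fˣ) : ev ω ga = upper 1 := FreeGroup.lift_apply_of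
theorem ev_gh (ω : Fˣ) : ev ω gh = diagHom ω := FreeGroup.lift_apply_of
theorem ev_gw (ω : Fˣ) : ev ω gw = weyl := FreeGroup.lift_apply_of

theorem ev_cj (ω : Fˣ) (n : ℕ) : ev ω (cj ga gh n) = upper (((ω : F) ^ 2) ^ n) := by
  rw [map_cj, ev_ga, ev_gh, cj_upper, mul_one, zpow_natCast, Units.val_pow_eq_pow_val, ← pow_mul, ← pow_mul,
    mul_comm]

theorem upper_comm (s t : F) : Commute (upper s) (upper t) := by
  rw [commute_iff_eq, upper_add, upper_add, add_comm]

/-- the four relators present in every characteristic -/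
noncomputable def baseRels (ω : Fˣ) (rep : F → (ZMod p)[X]) : List (FreeGroup (Fin 3)) :=
  [ga ^ p, word ga gh (minpoly (ZMod p) ((ω : F) ^ 2)), ga * (gw * ga * gw⁻¹) * ga * gw⁻¹,
    word ga gh (rep ω) * (gw * word ga gh (rep (ω : F)⁻¹) * gw⁻¹) * word ga gh (rep ω) * (gh * gw)⁻¹]

/-- relators making the root group commutative -/
theorem exists_commRels [Finite F] {ω : Fˣ} (hcyc : ∀ x : Fˣ, x ∈ Subgroup.zpowers ω) :
    ∃ C : List (FreeGroup (Fin 3)), C.length ≤ 3 ∧ (p = 2 → C.length ≤ 1) ∧ (∀ r ∈ C, ev ω r = 1) ∧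
      ∀ (G : Type) [Group G] (π : FreeGroup (Fin 3) →* G), π ga ^ p = 1 →
        word (π ga) (π gh) (minpoly (ZMod p) ((ω : F) ^ 2)) = 1 → (∀ r ∈ C, π r = 1) →
        ∀ m n : ℤ, Commute (cj (π ga) (π gh) m) (cj (π ga) (π gh) n) := by
  obtain ⟨m, hm⟩ : ∃ m, m = minpoly (ZMod p) ((ω : F) ^ 2) := ⟨_, rfl⟩
  have hint : IsIntegral (ZMod p) ((ω : F) ^ 2) := IsIntegral.of_finite _ _
  rw [← hm]
  by_cases hd : m.natDegree ≤ 2
  · refine ⟨[ga * cj ga gh ((1 : ℕ) : ℤ) * ga⁻¹ * (cj ga gh ((1 : ℕ) : ℤ))⁻¹], by simp, fun _ => by simp, ?_,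
      fun G _ π _ hm1 hC => ?_⟩
    · simp only [List.mem_singleton, forall_eq, map_mul, map_inv, ev_ga, ev_cj]
      rw [(upper_comm _ _).eq, mul_inv_cancel_right, mul_inv_cancel]
    · have h1 := hC _ (List.mem_singleton_self _)
      simp only [map_mul, map_inv, map_cj, Nat.cast_one] at h1
      exact comm_small (hm ▸ minpoly.monic hint) hd (hm ▸ (minpoly.natDegree_pos hint).ne') hm1
        (commute_of_eq_one h1)
  rw [not_le, hm] at hd
  obtain ⟨i, j, hij, ⟨Q, hQ⟩, hi⟩ := exists_params hcyc hd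
  have hjrel : ev ω ((cj ga gh (j : ℕ))⁻¹ * (ga * cj ga gh (i : ℕ))) = 1 := by
    rw [map_mul, map_inv, map_mul, ev_ga, ev_cj, ev_cj, upper_add, hij, inv_mul_cancel]
  by_cases hp : p = 2
  · obtain rfl := hi hp
    refine ⟨[(cj ga gh (j : ℕ))⁻¹ * (ga * cj ga gh ((1 : ℕ) : ℤ))], by simp, fun _ => by simp, ?_,
      fun G _ π ha _ hC => ?_⟩
    · simp only [List.mem_singleton, forall_eq]; exact hjrel
    · have h1 := hC _ (List.mem_singleton_self _)
      rw [map_mul, map_inv, map_mul, map_cj, map_cj, inv_mul_eq_one] at h1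
      rw [hp, pow_two] at ha
      have hsq : ∀ k : ℤ, cj (π ga) (π gh) k * cj (π ga) (π gh) k = 1 := fun k => by
        simp only [cj]
        rw [show π gh ^ k * π ga * (π gh ^ k)⁻¹ * (π gh ^ k * π ga * (π gh ^ k)⁻¹) =
          π gh ^ k * (π ga * π ga) * (π gh ^ k)⁻¹ by group, ha, mul_one, mul_inv_cancel]
      have hc : Commute (π ga) (cj (π ga) (π gh) ((1 : ℕ) : ℤ)) := by
        have e := hsq (j : ℕ)
        rw [h1, mul_eq_one_iff_eq_inv, mul_inv_rev, inv_eq_of_mul_eq_one_right ha,
          inv_eq_of_mul_eq_one_right (hsq ((1 : ℕ) : ℤ))] at e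
        exact e
      refine comm_large (p := p) (Q := X) hc h1 ?_
      rw [Nat.cast_one, zpow_one, ← mul_one (X : (ZMod p)[X]), word_X_mul, word_one]
      simp [cj]
  refine ⟨[ga * cj ga gh (i : ℕ) * ga⁻¹ * (cj ga gh (i : ℕ))⁻¹, (cj ga gh (j : ℕ))⁻¹ * (ga * cj ga gh (i : ℕ)),
      (cj ga gh ((1 : ℕ) : ℤ))⁻¹ * word ga (gh ^ (i : ℤ)) Q], by simp, fun h => absurd h hp, ?_,
      fun G _ π _ _ hC => ?_⟩
  · simp only [List.mem_cons, List.not_mem_nil, or_false, forall_eq_or_imp, forall_eq]
    refine ⟨?_, hjrel, ?_⟩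
    · simp only [map_mul, map_inv, ev_ga, ev_cj]
      rw [(upper_comm _ _).eq, mul_inv_cancel_right, mul_inv_cancel]
    · rw [map_mul, map_inv, map_word, ev_cj, ev_ga, map_zpow, ev_gh, ← map_zpow, word_upper, zpow_natCast,
        Units.val_pow_eq_pow_val,
        show ((ω : F) ^ i) ^ 2 = ((ω : F) ^ 2) ^ i by rw [← pow_mul, ← pow_mul, mul_comm], hQ, pow_one,
        inv_mul_cancel]
  · simp only [List.mem_cons, List.not_mem_nil, or_false, forall_eq_or_imp, forall_eq] at hC
    obtain ⟨h1, h2, h3⟩ := hC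
    simp only [map_mul, map_inv, map_cj] at h1 h2
    simp only [map_mul, map_inv, map_cj, map_word, map_zpow, Nat.cast_one, inv_mul_eq_one] at h3
    exact comm_large (commute_of_eq_one h1) (inv_mul_eq_one.1 h2) h3.symm

/-- relators of `SL₂` -/
noncomputable def slRels (ω : Fˣ) (rep : F → (ZMod p)[X]) (C : List (FreeGroup (Fin 3))) : List (FreeGroup (Fin 3)) :=
  baseRels ω rep ++ C ++ (if p = 2 then [] else [gw * gh * gw⁻¹ * gh, gw * gw * ga * (gw * gw)⁻¹ * ga⁻¹])

/-- relators of `PSL₂` -/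
noncomputable def pslRels (ω : Fˣ) (rep : F → (ZMod p)[X]) (C : List (FreeGroup (Fin 3))) : List (FreeGroup (Fin 3)) :=
  baseRels ω rep ++ C ++ (if p = 2 then [] else [gw * gh * gw⁻¹ * gh, gw * gw])

theorem weyl_diag (u : Fˣ) :
    weyl * diagHom u * (weyl : Matrix.SpecialLinearGroup (Fin 2) F)⁻¹ * diagHom u = 1 := by
  refine Subtype.ext ?_
  simp only [Matrix.SpecialLinearGroup.coe_mul, Matrix.SpecialLinearGroup.coe_inv, coe_weyl, coe_diagHom,
    Matrix.adjugate_fin_two, Matrix.SpecialLinearGroup.coe_one]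
  ext i j
  fin_cases i <;> fin_cases j <;> simp [Matrix.mul_apply, Fin.sum_univ_two]

theorem weyl_sq :
    ((weyl * weyl : Matrix.SpecialLinearGroup (Fin 2) F) : Matrix (Fin 2) (Fin 2) F) = !![-1, 0; 0, -1] := by
  simp only [Matrix.SpecialLinearGroup.coe_mul, coe_weyl]
  ext i j
  fin_cases i <;> fin_cases j <;> simp [Matrix.mul_apply, Fin.sum_univ_two]

theorem weyl_relation (t : F) (ht : t ≠ 0) :
    ((upper t * lower (-t⁻¹) * upper t : Matrix.SpecialLinearGroup (Fin 2) F) : Matrix (Fin 2) (Fin 2) F) =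
      !![0, t; -t⁻¹, 0] := by
  simp only [Matrix.SpecialLinearGroup.coe_mul, coe_upper, coe_lower]
  ext i j
  fin_cases i <;> fin_cases j <;> simp [Matrix.mul_apply, Fin.sum_univ_two, ht]

theorem ev_slRels {ω : Fˣ} {rep : F → (ZMod p)[X]} (hrep : ∀ u : F, aeval ((ω : F) ^ 2) (rep u) = u)
    {C : List (FreeGroup (Fin 3))} (hC : ∀ r ∈ C, ev ω r = 1) : ∀ r ∈ slRels ω rep C, ev ω r = 1 := by
  have hP : CharP F p := charP_F
  intro r hr
  simp only [slRels, List.mem_append] at hr
  rcases hr with (hr | hr) | hr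
  · simp only [baseRels, List.mem_cons, List.not_mem_nil, or_false] at hr
    rcases hr with rfl | rfl | rfl | rfl
    · rw [map_pow, ev_ga, upper_pow, CharP.cast_eq_zero, zero_mul, upper_zero]
    · rw [map_word, ev_ga, ev_gh, word_upper, minpoly.aeval, upper_zero]
    · simp only [map_mul, map_inv, ev_ga, ev_gw, weyl_upper]
      rw [mul_inv_eq_one]
      refine Subtype.ext ?_
      have := weyl_relation (1 : F) one_ne_zero
      rw [inv_one] at this
      rw [this, coe_weyl]
    · simp only [map_mul, map_inv, map_word, ev_ga, ev_gh, ev_gw, word_upper, hrep, weyl_upper]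
      rw [mul_inv_eq_one]
      refine Subtype.ext ?_
      rw [weyl_relation _ ω.ne_zero, Matrix.SpecialLinearGroup.coe_mul, coe_diagHom, coe_weyl]
      ext i j
      fin_cases i <;> fin_cases j <;> simp [Matrix.mul_apply, Fin.sum_univ_two]
  · exact hC r hr
  · split at hr
    · simp at hr
    · simp only [List.mem_cons, List.not_mem_nil, or_false] at hr
      rcases hr with rfl | rfl
      · simp only [map_mul, map_inv, ev_gh, ev_gw]; exact weyl_diag ω
      · simp only [map_mul, map_inv, ev_gw, ev_ga]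
        refine mul_inv_eq_one.2 (mul_inv_eq_iff_eq_mul.2 (Subtype.ext ?_))
        rw [Matrix.SpecialLinearGroup.coe_mul, Matrix.SpecialLinearGroup.coe_mul (upper 1), weyl_sq, coe_upper]
        ext i j
        fin_cases i <;> fin_cases j <;> simp [Matrix.mul_apply, Fin.sum_univ_two]

theorem ev_bijective [Finite F] {ω : Fˣ} (hcyc : ∀ x : Fˣ, x ∈ Subgroup.zpowers ω) {rep : F → (ZMod p)[X]}
    (hrep : ∀ u : F, aeval ((ω : F) ^ 2) (rep u) = u) {C : List (FreeGroup (Fin 3))}
    (hcomm : ∀ (G : Type) [Group G] (π : FreeGroup (Fin 3) →* G), π ga ^ p = 1 →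
        word (π ga) (π gh) (minpoly (ZMod p) ((ω : F) ^ 2)) = 1 → (∀ r ∈ C, π r = 1) →
        ∀ m n : ℤ, Commute (cj (π ga) (π gh) m) (cj (π ga) (π gh) n))
    {G : Type} [Group G] (π : FreeGroup (Fin 3) →* G) (hπ : Function.Surjective π)
    (f : G →* Matrix.SpecialLinearGroup (Fin 2) F) (hf : f.comp π = ev ω)
    (hR : ∀ r ∈ slRels ω rep C, π r = 1) : Function.Bijective f := by
  have hb : ∀ r ∈ baseRels ω rep, π r = 1 := fun r hr => hR r (by simp [slRels, hr])
  simp only [baseRels, List.mem_cons, List.not_mem_nil, or_false, forall_eq_or_imp, forall_eq] at hb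
  obtain ⟨r1, r2, r3, r4⟩ := hb
  rw [map_pow] at r1
  rw [map_word] at r2
  simp only [map_mul, map_inv, mul_inv_eq_one] at r3
  simp only [map_mul, map_inv, map_word, mul_inv_eq_one] at r4
  have hcm := hcomm G π r1 r2 fun r hr => hR r (by simp [slRels, hr])
  have hfx : ∀ v, f (π v) = ev ω v := fun v => DFunLike.congr_fun hf v
  have hextra : π gw * π gh * (π gw)⁻¹ = (π gh)⁻¹ ∧ Commute (π gw * π gw) (π ga) := by
    by_cases hp : p = 2
    · have ha : π ga * π ga = 1 := by rw [← pow_two, ← hp]; exact r1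
      have hyy : π gw * π ga * (π gw)⁻¹ * (π gw * π ga * (π gw)⁻¹) = 1 := by
        rw [show π gw * π ga * (π gw)⁻¹ * (π gw * π ga * (π gw)⁻¹) = π gw * (π ga * π ga) * (π gw)⁻¹ by group,
          ha, mul_one, mul_inv_cancel]
      have key : ∀ x y z : G, x * x = 1 → y * y = 1 → x * y * x = z → z * z = 1 := by
        rintro x y z hx hy rfl
        calc x * y * x * (x * y * x) = x * (y * (x * x) * y) * x := by group
          _ = 1 := by rw [hx, mul_one, hy, mul_one, hx]
      have hww : π gw * π gw = 1 := key _ _ _ ha hyy r3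
      refine ⟨?_, by rw [hww]; exact Commute.one_left _⟩
      have hX := pow_eq_one_closure hcm ha (rep (ω : F))
      have hY := pow_eq_one_closure hcm ha (rep (ω : F)⁻¹)
      have hYY : ∀ Y : G, Y * Y = 1 → π gw * Y * (π gw)⁻¹ * (π gw * Y * (π gw)⁻¹) = 1 := fun Y e => by
        rw [show π gw * Y * (π gw)⁻¹ * (π gw * Y * (π gw)⁻¹) = π gw * (Y * Y) * (π gw)⁻¹ by group, e,
          mul_one, mul_inv_cancel]
      have hhw := key _ _ _ hX (hYY _ hY) r4
      rw [inv_eq_of_mul_eq_one_right hww, eq_inv_iff_mul_eq_one]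
      calc π gw * π gh * π gw * π gh = π gw * (π gh * π gw * (π gh * π gw)) * (π gw)⁻¹ := by group
        _ = 1 := by rw [hhw, mul_one, mul_inv_cancel]
    · have h1 : π (gw * gh * gw⁻¹ * gh) = 1 := hR _ (by simp [slRels, hp])
      have h2 : π (gw * gw * ga * (gw * gw)⁻¹ * ga⁻¹) = 1 := hR _ (by simp [slRels, hp])
      simp only [map_mul, map_inv] at h1 h2
      exact ⟨eq_inv_of_mul_eq_one_left h1, commute_of_eq_one h2⟩
  have hgen : Subgroup.closure ({π ga, π gh, π gw} : Set G) = ⊤ := by
    rw [eq_top_iff]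
    rintro g -
    obtain ⟨v, rfl⟩ := hπ g
    induction v using FreeGroup.induction_on with
    | C1 => simp
    | of x =>
      refine Subgroup.subset_closure ?_
      fin_cases x <;> simp [ga, gh, gw]
    | inv_of x ih => simpa [map_inv] using inv_mem ih
    | mul x y hx hy => rw [map_mul]; exact mul_mem hx hy
  exact Pres.bijective
    { a := π ga
      h := π gh
      w := π gw
      f := f
      fa := (hfx ga).trans (ev_ga ω)
      fh := (hfx gh).trans (ev_gh ω)
      fw := (hfx gw).trans (ev_gw ω)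
      gen := hgen
      ha := r1
      comm := hcm
      hm := r2
      hinv := hextra.1
      b1 := r3
      b2 := r4
      hw2 := hextra.2
      cyclic := hcyc
      hrep := hrep : Pres ω rep G }

theorem center_two {x : Matrix.SpecialLinearGroup (Fin 2) F} (hx : x ∈ Subgroup.center _) :
    x = 1 ∨ x = weyl * weyl := by
  obtain ⟨r, hr, hA⟩ := Matrix.SpecialLinearGroup.mem_center_iff.1 hx
  rw [Fintype.card_fin] at hr
  rcases sq_eq_one_iff.1 hr with rfl | rfl
  · exact Or.inl (Subtype.ext (by rw [← hA, map_one, Matrix.SpecialLinearGroup.coe_one]))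
  · refine Or.inr (Subtype.ext ?_)
    rw [← hA, weyl_sq]
    ext i j
    fin_cases i <;> fin_cases j <;> simp

theorem presentations (F : Type*) [Field F] [Finite F] (p : ℕ) [Fact p.Prime] [Algebra (ZMod p) F] :
    ∃ L L' : List (FreeGroup (Fin 3)), L.length ≤ 9 ∧ L'.length ≤ 9 ∧ (p = 2 → L'.length ≤ 5) ∧
      Nonempty (PresentedGroup {r | r ∈ L} ≃* Matrix.SpecialLinearGroup (Fin 2) F) ∧
      Nonempty (PresentedGroup {r | r ∈ L'} ≃* Matrix.ProjectiveSpecialLinearGroup (Fin 2) F) := by
  have hP : CharP F p := charP_F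
  obtain ⟨ω, hcyc⟩ := IsCyclic.exists_generator (α := Fˣ)
  obtain ⟨C, hC3, hC1, hCev, hcomm⟩ := exists_commRels (p := p) hcyc
  choose rep hrep using exists_rep (p := p) hcyc
  have hL : ∀ r ∈ {r | r ∈ slRels ω rep C}, FreeGroup.lift (gens ω) r = 1 := ev_slRels hrep hCev
  let π := PresentedGroup.mk {r | r ∈ slRels ω rep C}
  let f := PresentedGroup.toGroup hL
  have hπ : Function.Surjective π := PresentedGroup.mk_surjective _
  have hf : f.comp π = ev ω := FreeGroup.ext_hom _ _ fun x =>
    (PresentedGroup.toGroup.of hL).trans FreeGroup.lift_apply_of.symm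
  have hbij : Function.Bijective f :=
    ev_bijective hcyc hrep hcomm π hπ f hf fun r hr => PresentedGroup.one_of_mem hr
  have hfx : ∀ v, f (π v) = ev ω v := fun v => DFunLike.congr_fun hf v
  -- the projective group
  let q := QuotientGroup.mk' (Subgroup.center (Matrix.SpecialLinearGroup (Fin 2) F))
  have hww : q (weyl * weyl) = 1 := (QuotientGroup.eq_one_iff _).2 (Matrix.SpecialLinearGroup.mem_center_iff.2
    ⟨-1, by simp, by rw [weyl_sq]; ext i j; fin_cases i <;> fin_cases j <;> simp⟩)
  have hL' : ∀ r ∈ {r | r ∈ pslRels ω rep C}, FreeGroup.lift (fun x => q (gens ω x)) r = 1 := by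
    intro r hr
    have e : FreeGroup.lift (fun x => q (gens ω x)) = q.comp (ev ω) :=
      FreeGroup.ext_hom _ _ fun x => by simp [ev]
    rw [e, MonoidHom.comp_apply]
    simp only [Set.mem_ofPred_eq, pslRels, List.mem_append] at hr
    rcases hr with hr | hr
    · rw [ev_slRels hrep hCev r (by
        simp only [slRels, List.mem_append]; exact Or.inl hr), map_one]
    · split at hr
      · simp at hr
      · rename_i hp
        simp only [List.mem_cons, List.not_mem_nil, or_false] at hr
        rcases hr with rfl | rfl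
        · rw [ev_slRels hrep hCev _ (by simp [slRels, hp]), map_one]
        · rw [map_mul (ev ω), ev_gw, hww]
  let π' := PresentedGroup.mk {r | r ∈ pslRels ω rep C}
  let ρ := PresentedGroup.toGroup hL'
  have hρ : ρ.comp π' = q.comp (ev ω) := FreeGroup.ext_hom _ _ fun x =>
    (PresentedGroup.toGroup.of hL').trans (congrArg q FreeGroup.lift_apply_of).symm
  have hρx : ∀ v, ρ (π' v) = q (ev ω v) := fun v => DFunLike.congr_fun hρ v
  have hker : ∀ v, π v = 1 → π' v = 1 := by
    have hle : Subgroup.normalClosure {r | r ∈ slRels ω rep C} ≤ π'.ker := by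
      refine Subgroup.normalClosure_le_normal fun r hr => ?_
      simp only [Set.mem_ofPred_eq, slRels, List.mem_append] at hr
      rw [SetLike.mem_coe, MonoidHom.mem_ker]
      rcases hr with hr | hr
      · exact PresentedGroup.one_of_mem (by simp only [Set.mem_ofPred_eq, pslRels, List.mem_append]; exact Or.inl hr)
      · split at hr
        · simp at hr
        · rename_i hp
          simp only [List.mem_cons, List.not_mem_nil, or_false] at hr
          rcases hr with rfl | rfl
          · exact PresentedGroup.one_of_mem (by simp [pslRels, hp])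
          · have : π' (gw * gw) = 1 := PresentedGroup.one_of_mem (by simp [pslRels, hp])
            simp only [map_mul, map_inv] at this ⊢
            rw [this]; simp
    intro v hv
    exact hle (PresentedGroup.mk_eq_one_iff.1 hv)
  have hww' : π' (gw * gw) = 1 := by
    by_cases hp : p = 2
    · refine hker _ (hbij.1 ?_)
      rw [hfx, map_one, map_mul, ev_gw]
      refine Subtype.ext ?_
      rw [weyl_sq, Matrix.SpecialLinearGroup.coe_one]
      have : CharP F 2 := hp ▸ hP
      ext i j
      fin_cases i <;> fin_cases j <;> simp [CharTwo.neg_eq]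
    · exact PresentedGroup.one_of_mem (by simp [pslRels, hp])
  have hρbij : Function.Bijective ρ := by
    refine ⟨(injective_iff_map_eq_one ρ).2 fun g hg => ?_, fun z => ?_⟩
    · obtain ⟨v, rfl⟩ := PresentedGroup.mk_surjective _ g
      rw [hρx] at hg
      rcases center_two ((QuotientGroup.eq_one_iff _).1 hg) with e | e
      · exact hker v (hbij.1 (by rw [hfx, e, map_one]))
      · have h1 : π (v * (gw * gw)⁻¹) = 1 :=
          hbij.1 (by rw [hfx, map_mul, map_inv, map_mul (ev ω), ev_gw, e, mul_inv_cancel, map_one])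
        have h2 := hker _ h1
        rwa [map_mul, map_inv, hww', inv_one, mul_one] at h2
    · obtain ⟨y, rfl⟩ := QuotientGroup.mk'_surjective _ z
      obtain ⟨x, rfl⟩ := hbij.2 y
      obtain ⟨v, rfl⟩ := hπ x
      exact ⟨π' v, by rw [hρx, hfx]⟩
  refine ⟨slRels ω rep C, pslRels ω rep C, ?_, ?_, fun hp => ?_, ⟨MulEquiv.ofBijective f hbij⟩,
    ⟨MulEquiv.ofBijective ρ hρbij⟩⟩
  · simp only [slRels, baseRels, List.length_append, List.length_cons, List.length_nil]
    split <;> simp <;> omega
  · simp only [pslRels, baseRels, List.length_append, List.length_cons, List.length_nil]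
    split <;> simp <;> omega
  · simp only [pslRels, baseRels, List.length_append, List.length_cons, List.length_nil, if_pos hp]
    have := hC1 hp
    omega

end CfsgLib.Known.SL2Bounded
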