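import Mathlib

/-!
# Words in the conjugates of one element, with exponents read off a polynomial over `ZMod p`
-/

set_option autoImplicit false

open Polynomial

namespace CfsgLib.Known.SL2Bounded

variable {G H : Type*} [Group G] [Group H]

/-- the conjugate `hⁿ a h⁻ⁿ` -/
def cj (a h : G) (n : ℤ) : G := h ^ n * a * (h ^ n)⁻¹

theorem map_cj (f : G →* H) (a h : G) (n : ℤ) : f (cj a h n) = cj (f a) (f h) n := by
  simp only [cj, map_mul, map_inv, map_zpow]

theorem cj_zero (a h : G) : cj a h 0 = a := by simp [cj]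

theorem conj_cj (a h : G) (k n : ℤ) : h ^ k * cj a h n * (h ^ k)⁻¹ = cj a h (k + n) := by
  simp only [cj, zpow_add, mul_inv_rev, mul_assoc]

theorem cj_pow (a h : G) (k : ℤ) (n : ℤ) : cj a (h ^ k) n = cj a h (k * n) := by
  simp only [cj, zpow_mul]

/-- commuting generators generate a commutative subgroup -/
theorem comm_closure {S : Set G} (h : ∀ x ∈ S, ∀ y ∈ S, Commute x y) :
    ∀ x ∈ Subgroup.closure S, ∀ y ∈ Subgroup.closure S, Commute x y := by
  have h1 : Subgroup.closure S ≤ Subgroup.centralizer S :=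
    (Subgroup.closure_le _).2 fun x hx => Subgroup.mem_centralizer_iff.2 fun y hy => h y hy x hx
  intro x hx y hy
  have h2 : Subgroup.closure S ≤ Subgroup.centralizer {x} :=
    (Subgroup.closure_le _).2 fun z hz =>
      Subgroup.mem_centralizer_singleton_iff.2 (Subgroup.mem_centralizer_iff.1 (h1 hx) z hz)
  exact (Subgroup.mem_centralizer_singleton_iff.1 (h2 hy)).symm

/-- the product of the first `N` conjugates with exponents `c` -/
def wordN (a h : G) (c : ℕ → ℕ) : ℕ → G
  | 0 => 1
  | N + 1 => wordN a h c N * cj a h N ^ c N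

/-- the word of a polynomial -/
def word {p : ℕ} (a h : G) (P : (ZMod p)[X]) : G :=
  wordN a h (fun n => (P.coeff n).val) (P.natDegree + 1)

theorem map_wordN (f : G →* H) (a h : G) (c : ℕ → ℕ) :
    ∀ N, f (wordN a h c N) = wordN (f a) (f h) c N
  | 0 => map_one f
  | N + 1 => by simp only [wordN, map_mul, map_pow, map_wordN f a h c N, map_cj]

theorem map_word {p : ℕ} (f : G →* H) (a h : G) (P : (ZMod p)[X]) : f (word a h P) = word (f a) (f h) P :=
  map_wordN f a h _ _

theorem wordN_mem {K : Subgroup G} {a h : G} (hK : ∀ n : ℕ, cj a h n ∈ K) (c : ℕ → ℕ) :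
    ∀ N, wordN a h c N ∈ K
  | 0 => one_mem K
  | N + 1 => mul_mem (wordN_mem hK c N) (pow_mem (hK N) _)

theorem word_mem {p : ℕ} {K : Subgroup G} {a h : G} (hK : ∀ n : ℕ, cj a h n ∈ K) (P : (ZMod p)[X]) :
    word a h P ∈ K := wordN_mem hK _ _

theorem wordN_stable (a h : G) {c : ℕ → ℕ} {M : ℕ} (hc : ∀ n, M ≤ n → c n = 0) :
    ∀ N, M ≤ N → wordN a h c N = wordN a h c M := by
  intro N hN
  induction N, hN using Nat.le_induction with
  | base => rfl
  | succ N hN ih => rw [wordN, hc N hN, pow_zero, mul_one, ih]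

theorem word_eq_wordN {p : ℕ} (a h : G) (P : (ZMod p)[X]) {N : ℕ} (hN : P.natDegree + 1 ≤ N) :
    wordN a h (fun n => (P.coeff n).val) N = word a h P :=
  wordN_stable a h (fun n hn => by rw [coeff_eq_zero_of_natDegree_lt (by omega), ZMod.val_zero]) N hN

theorem word_zero {p : ℕ} (a h : G) : word a h (0 : (ZMod p)[X]) = 1 := by
  rw [← word_eq_wordN a h _ le_rfl]
  simp [wordN]

theorem word_one {p : ℕ} [Fact p.Prime] (a h : G) : word a h (1 : (ZMod p)[X]) = a := by
  rw [← word_eq_wordN a h _ le_rfl]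
  simp [wordN, cj_zero, ZMod.val_one]

variable {p : ℕ} [Fact p.Prime] {a h : G}

section

variable (hcm : ∀ m n : ℕ, Commute (cj a h m) (cj a h n)) (ha : a ^ p = 1)
include ha

theorem cj_pow_p (n : ℤ) : cj a h n ^ p = 1 := by
  rw [cj, conj_pow, ha, mul_one, mul_inv_cancel]

include hcm

theorem word_add (P Q : (ZMod p)[X]) : word a h (P + Q) = word a h P * word a h Q := by
  obtain ⟨N, hN⟩ : ∃ N, N = max (max P.natDegree Q.natDegree) (P + Q).natDegree + 1 := ⟨_, rfl⟩
  rw [← word_eq_wordN a h _ (N := N) (by omega), ← word_eq_wordN a h _ (N := N) (by omega),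
    ← word_eq_wordN a h _ (N := N) (by omega)]
  clear hN
  induction N with
  | zero => simp [wordN]
  | succ N ih =>
    have hmem : ∀ n : ℕ, cj a h n ∈ Subgroup.closure (Set.range fun n : ℕ => cj a h n) :=
      fun n => Subgroup.subset_closure ⟨n, rfl⟩
    have h1 : Commute (wordN a h (fun n => (Q.coeff n).val) N) (cj a h N ^ (P.coeff N).val) :=
      (comm_closure (by rintro _ ⟨m, rfl⟩ _ ⟨n, rfl⟩; exact hcm m n) _ (wordN_mem hmem _ N) _
        (hmem N)).pow_right _
    have h2 : cj a h N ^ ((P + Q).coeff N).val = cj a h N ^ (P.coeff N).val * cj a h N ^ (Q.coeff N).val := by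
      rw [coeff_add, ZMod.val_add, ← pow_add]
      conv_rhs => rw [← Nat.div_add_mod ((P.coeff N).val + (Q.coeff N).val) p, pow_add, pow_mul,
        cj_pow_p ha, one_pow, one_mul]
    simp only [wordN]
    rw [ih, h2]
    simp only [mul_assoc]
    rw [← mul_assoc (wordN a h (fun n => (Q.coeff n).val) N), h1.eq, mul_assoc]

end

theorem wordN_shift (a h : G) (c c' : ℕ → ℕ) (h0 : c' 0 = 0) (hs : ∀ n, c' (n + 1) = c n) :
    ∀ N, wordN a h c' (N + 1) = h * wordN a h c N * h⁻¹
  | 0 => by simp [wordN, h0]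
  | N + 1 => by
    rw [wordN, wordN_shift a h c c' h0 hs N, hs, wordN]
    rw [show cj a h ((N + 1 : ℕ) : ℤ) = h * cj a h N * h⁻¹ by
      rw [Nat.cast_succ, add_comm, ← conj_cj, zpow_one], conj_pow]
    group

theorem word_X_mul (a h : G) (P : (ZMod p)[X]) : word a h (X * P) = h * word a h P * h⁻¹ := by
  have hdeg : (X * P).natDegree ≤ P.natDegree + 1 :=
    le_trans natDegree_mul_le (by simp [natDegree_X]; omega)
  rw [← word_eq_wordN a h (X * P) (N := P.natDegree + 1 + 1) (by omega),
    wordN_shift a h (fun n => (P.coeff n).val) _ (by simp) (fun n => by simp [coeff_X_mul])]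
  rfl

theorem word_kernel (hcm : ∀ m n : ℕ, Commute (cj a h m) (cj a h n)) (ha : a ^ p = 1)
    {m : (ZMod p)[X]} (hm : word a h m = 1) : ∀ q : (ZMod p)[X], word a h (q * m) = 1 := by
  intro q
  induction q using Polynomial.induction_on with
  | C c =>
    rw [← ZMod.natCast_zmod_val c, map_natCast]
    induction c.val with
    | zero => simp [word_zero]
    | succ k ih => rw [Nat.cast_succ, add_mul, one_mul, word_add hcm ha, ih, hm, one_mul]
  | add P Q hP hQ => rw [add_mul, word_add hcm ha, hP, hQ, one_mul]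
  | monomial n c ih =>
    rw [show C c * X ^ (n + 1) * m = X * (C c * X ^ n * m) by ring, word_X_mul, ih, mul_one, mul_inv_cancel]

/-- polynomials with the same value give the same word -/
theorem word_congr {F : Type*} [Field F] [Algebra (ZMod p) F] {z : F}
    (hcm : ∀ m n : ℕ, Commute (cj a h m) (cj a h n)) (ha : a ^ p = 1)
    (hm : word a h (minpoly (ZMod p) z) = 1) {P Q : (ZMod p)[X]} (e : aeval z P = aeval z Q) :
    word a h P = word a h Q := by
  obtain ⟨q, hq⟩ := minpoly.dvd (ZMod p) z (p := P - Q) (by rw [map_sub, e, sub_self])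
  rw [← sub_add_cancel P Q, word_add hcm ha, hq, mul_comm, word_kernel hcm ha hm, one_mul]

/-- all conjugates commute once those with `a` do -/
theorem comm_of_nat {a h : G} (hk : ∀ k : ℕ, Commute a (cj a h k)) (m n : ℤ) :
    Commute (cj a h m) (cj a h n) := by
  suffices key : ∀ m n : ℤ, m ≤ n → Commute (cj a h m) (cj a h n) by
    rcases le_total m n with e | e
    exacts [key m n e, (key n m e).symm]
  intro m n e
  obtain ⟨k, hk'⟩ := Int.eq_ofNat_of_zero_le (sub_nonneg.2 e)
  have e1 := (hk k).map (MulAut.conj (h ^ m)).toMonoidHom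
  simp only [MulEquiv.coe_toMonoidHom, MulAut.conj_apply] at e1
  rw [conj_cj, show m + (k : ℤ) = n by omega] at e1
  exact e1

/-- a commutative subgroup containing `a` and carried into itself by `h` contains all positive conjugates -/
theorem comm_of_invariant {a h : G} {V : Subgroup G} (hV : ∀ x ∈ V, ∀ y ∈ V, Commute x y) (haV : a ∈ V)
    (hhV : ∀ x ∈ V, h * x * h⁻¹ ∈ V) (m n : ℤ) : Commute (cj a h m) (cj a h n) := by
  have hmem : ∀ k : ℕ, cj a h k ∈ V := by
    intro k
    induction k with
    | zero => simpa [cj_zero] using haV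
    | succ k ih => rw [Nat.cast_succ, add_comm, ← conj_cj, zpow_one]; exact hhV _ ih
  exact comm_of_nat (fun k => hV a haV _ (hmem k)) m n

/-- conjugation carries a generated subgroup into `K` -/
theorem conj_closure_mem {S : Set G} {K : Subgroup G} {g : G} (hS : ∀ s ∈ S, g * s * g⁻¹ ∈ K) :
    ∀ x ∈ Subgroup.closure S, g * x * g⁻¹ ∈ K :=
  fun _ hx => (Subgroup.closure_le (K := K.comap (MulAut.conj g).toMonoidHom)).2 hS hx

/-- two conjugates suffice when the polynomial has degree at most two -/
theorem comm_small {a h : G} {m : (ZMod p)[X]} (hmon : m.Monic) (hdeg : m.natDegree ≤ 2)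
    (hdeg0 : m.natDegree ≠ 0) (hm : word a h m = 1) (h1 : Commute a (cj a h 1)) (k l : ℤ) :
    Commute (cj a h k) (cj a h l) := by
  let V := Subgroup.closure ({a, cj a h 1} : Set G)
  have haV : a ∈ V := Subgroup.subset_closure (by simp)
  have h1V : cj a h 1 ∈ V := Subgroup.subset_closure (by simp)
  have hh : h * a * h⁻¹ = cj a h 1 := by simp [cj]
  have hh2 : h * cj a h 1 * h⁻¹ = cj a h 2 := by
    have := conj_cj a h 1 1
    rwa [zpow_one, show (1 : ℤ) + 1 = 2 by norm_num] at this
  have htop : (m.coeff m.natDegree).val = 1 := by rw [hmon.coeff_natDegree, ZMod.val_one]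
  have h2V : cj a h 2 ∈ V := by
    unfold word at hm
    rcases (by omega : m.natDegree = 1 ∨ m.natDegree = 2) with e | e
    · simp only [e] at hm htop
      simp only [wordN, htop, pow_one, one_mul, Nat.cast_zero, Nat.cast_one, cj_zero] at hm
      rw [← hh2, eq_inv_of_mul_eq_one_right hm,
        show h * (a ^ (m.coeff 0).val)⁻¹ * h⁻¹ = ((h * a * h⁻¹) ^ (m.coeff 0).val)⁻¹ by
          rw [conj_pow]; group, hh]
      exact inv_mem (pow_mem h1V _)
    · simp only [e] at hm htop
      simp only [wordN, htop, pow_one, one_mul, Nat.cast_zero, Nat.cast_one, Nat.cast_ofNat, cj_zero] at hm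
      rw [eq_inv_of_mul_eq_one_right hm]
      exact inv_mem (mul_mem (pow_mem haV _) (pow_mem h1V _))
  refine comm_of_invariant (V := V) (comm_closure ?_) haV (conj_closure_mem ?_) k l
  · rintro x (rfl | rfl) y (rfl | rfl)
    exacts [Commute.refl _, h1, h1.symm, Commute.refl _]
  · rintro x (rfl | rfl)
    exacts [hh ▸ h1V, hh2 ▸ h2V]

/-- the three relations which make all conjugates commute -/
theorem comm_large {a h : G} {i j : ℕ} (hi : Commute a (cj a h i))
    (hj : cj a h j = a * cj a h i) {Q : (ZMod p)[X]} (hQ : word a (h ^ (i : ℤ)) Q = cj a h 1) (k l : ℤ) :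
    Commute (cj a h k) (cj a h l) := by
  have key : ∀ n : ℕ, Commute a (cj a h (i * n : ℤ)) ∧ Commute a (cj a h (i * (n + 1 : ℕ) : ℤ)) := by
    intro n
    induction n with
    | zero => exact ⟨by simp [cj_zero], by simpa using hi⟩
    | succ n ih =>
      refine ⟨ih.2, ?_⟩
      have sh : ∀ r s : ℤ, Commute a (cj a h s) → Commute (cj a h r) (cj a h (r + s)) := fun r s e => by
        have e1 := e.map (MulAut.conj (h ^ r)).toMonoidHom
        simp only [MulEquiv.coe_toMonoidHom, MulAut.conj_apply] at e1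
        rw [conj_cj] at e1
        exact e1
      obtain ⟨N, hN⟩ : ∃ N : ℤ, N = i * (n + 1 : ℕ) := ⟨_, rfl⟩
      rw [show (i : ℤ) * ((n + 1 + 1 : ℕ) : ℤ) = N + i by rw [hN]; push_cast; ring]
      rw [← hN] at ih
      have hYZ : Commute (cj a h i) (cj a h N) := by
        have := sh i _ ih.1
        rwa [show (i : ℤ) + i * n = N by rw [hN]; push_cast; ring] at this
      have hYV : Commute (cj a h i) (cj a h (N + i)) := by
        have := sh i _ ih.2
        rwa [add_comm] at this
      have hsum : cj a h (N + j) = cj a h N * cj a h (N + i) := by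
        rw [← conj_cj a h N j, hj, show h ^ N * (a * cj a h i) * (h ^ N)⁻¹ =
          h ^ N * a * (h ^ N)⁻¹ * (h ^ N * cj a h i * (h ^ N)⁻¹) by group, conj_cj]
        rfl
      have e := sh j _ ih.2
      rw [add_comm, hsum, hj] at e
      have hXZ : Commute a (cj a h N) := ih.2
      show a * cj a h (N + i) = cj a h (N + i) * a
      have e' : cj a h N * (a * cj a h (N + i) * cj a h i) = cj a h N * (cj a h (N + i) * a * cj a h i) := by
        calc cj a h N * (a * cj a h (N + i) * cj a h i)
            = (cj a h N * a) * (cj a h (N + i) * cj a h i) := by group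
          _ = (a * cj a h N) * (cj a h i * cj a h (N + i)) := by rw [hXZ.eq, hYV.eq]
          _ = a * (cj a h N * cj a h i) * cj a h (N + i) := by group
          _ = (a * cj a h i) * (cj a h N * cj a h (N + i)) := by rw [← hYZ.eq]; group
          _ = (cj a h N * cj a h (N + i)) * (a * cj a h i) := e.eq
          _ = _ := by group
      exact mul_right_cancel (mul_left_cancel e')
  let V := Subgroup.closure (Set.range fun n : ℕ => cj a h (i * n : ℤ))
  have hmem : ∀ n : ℕ, cj a h (i * n : ℤ) ∈ V := fun n => Subgroup.subset_closure ⟨n, rfl⟩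
  have h1V : cj a h 1 ∈ V := hQ ▸ word_mem (fun n => by rw [cj_pow]; exact hmem n) Q
  have hsh : ∀ n : ℕ, ∀ x ∈ V, h ^ ((i : ℤ) * n) * x * (h ^ ((i : ℤ) * n))⁻¹ ∈ V := by
    intro n
    refine conj_closure_mem ?_
    rintro _ ⟨r, rfl⟩
    rw [conj_cj, show (i : ℤ) * n + i * r = i * ((n + r : ℕ) : ℤ) by push_cast; ring]
    exact hmem _
  refine comm_of_invariant (V := V) (comm_closure ?_) (by simpa [cj_zero] using hmem 0)
    (conj_closure_mem ?_) k l
  · rintro _ ⟨r, rfl⟩ _ ⟨s, rfl⟩
    dsimp only
    rcases le_total r s with e | e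
    · have := ((key (s - r)).1).map (MulAut.conj (h ^ ((i : ℤ) * r))).toMonoidHom
      simp only [MulEquiv.coe_toMonoidHom, MulAut.conj_apply] at this
      rw [conj_cj, show (i : ℤ) * r + i * ((s - r : ℕ) : ℤ) = i * s by rw [Nat.cast_sub e]; ring] at this
      exact this
    · have := ((key (r - s)).1).map (MulAut.conj (h ^ ((i : ℤ) * s))).toMonoidHom
      simp only [MulEquiv.coe_toMonoidHom, MulAut.conj_apply] at this
      rw [conj_cj, show (i : ℤ) * s + i * ((r - s : ℕ) : ℤ) = i * r by rw [Nat.cast_sub e]; ring] at this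
      exact this.symm
  · rintro _ ⟨r, rfl⟩
    have := hsh r _ h1V
    rwa [conj_cj, add_comm, ← conj_cj, zpow_one] at this

end CfsgLib.Known.SL2Bounded
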