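import Cfsg.Agent.Lib.Known.SL2Presentation
import Cfsg.Agent.Lib.Known.SL2Bounded.Word

/-!
# Three elements satisfying the short relations give `SL₂`
-/

set_option autoImplicit false

open Polynomial
open CfsgLib.Known.SLPresentation (upper lower Rel1 coe_upper coe_lower)

namespace CfsgLib.Known.SL2Bounded

variable {F : Type*} [Field F]

/-- the diagonal matrices -/
def diagHom : Fˣ →* Matrix.SpecialLinearGroup (Fin 2) F where
  toFun u := ⟨!![(u : F), 0; 0, (u : F)⁻¹], by simp [Matrix.det_fin_two_of]⟩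
  map_one' := Subtype.ext (by ext i j; fin_cases i <;> fin_cases j <;> simp)
  map_mul' u v := Subtype.ext (by
    show !![((u * v : Fˣ) : F), 0; 0, ((u * v : Fˣ) : F)⁻¹] = !![(u : F), 0; 0, (u : F)⁻¹] * !![(v : F), 0; 0, (v : F)⁻¹]
    ext i j
    fin_cases i <;> fin_cases j <;> simp [Matrix.mul_apply, Fin.sum_univ_two, mul_comm])

/-- the Weyl matrix -/
def weyl : Matrix.SpecialLinearGroup (Fin 2) F :=
  ⟨!![0, 1; -1, 0], by simp [Matrix.det_fin_two_of]⟩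

theorem coe_diagHom (u : Fˣ) :
    ((diagHom u : Matrix.SpecialLinearGroup (Fin 2) F) : Matrix (Fin 2) (Fin 2) F) = !![(u : F), 0; 0, (u : F)⁻¹] :=
  rfl

theorem coe_weyl : ((weyl : Matrix.SpecialLinearGroup (Fin 2) F) : Matrix (Fin 2) (Fin 2) F) = !![0, 1; -1, 0] :=
  rfl

theorem upper_add (s t : F) : upper s * upper t = upper (s + t) := Subtype.ext (by
  rw [Matrix.SpecialLinearGroup.coe_mul, coe_upper, coe_upper, coe_upper]
  ext i j
  fin_cases i <;> fin_cases j <;> simp [Matrix.mul_apply, Fin.sum_univ_two, add_comm])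

theorem upper_zero : upper (0 : F) = 1 := Subtype.ext (by
  rw [coe_upper]; ext i j; fin_cases i <;> fin_cases j <;> simp)

theorem upper_pow (t : F) : ∀ k : ℕ, upper t ^ k = upper (k * t)
  | 0 => by simp [upper_zero]
  | k + 1 => by rw [pow_succ, upper_pow t k, upper_add]; congr 1; push_cast; ring

theorem cj_upper (u : Fˣ) (t : F) (n : ℤ) :
    cj (upper t) (diagHom u) n = upper (((u ^ n : Fˣ) : F) ^ 2 * t) := by
  rw [cj, ← map_zpow, ← map_inv]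
  generalize u ^ n = v
  refine Subtype.ext ?_
  rw [Matrix.SpecialLinearGroup.coe_mul, Matrix.SpecialLinearGroup.coe_mul, coe_diagHom, coe_diagHom, coe_upper,
    coe_upper]
  ext i j
  fin_cases i <;> fin_cases j <;> simp [Matrix.mul_apply, Fin.sum_univ_two, pow_two, mul_assoc, mul_comm t]

theorem weyl_upper (t : F) : weyl * upper t * (weyl : Matrix.SpecialLinearGroup (Fin 2) F)⁻¹ = lower (-t) := by
  refine Subtype.ext ?_
  simp only [Matrix.SpecialLinearGroup.coe_mul, Matrix.SpecialLinearGroup.coe_inv, coe_weyl, coe_upper, coe_lower,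
    Matrix.adjugate_fin_two]
  ext i j
  fin_cases i <;> fin_cases j <;> simp [Matrix.mul_apply, Fin.sum_univ_two]

variable {p : ℕ} [Fact p.Prime] [Algebra (ZMod p) F]

theorem word_upper (u : Fˣ) (P : (ZMod p)[X]) :
    word (upper (1 : F)) (diagHom u) P = upper (aeval ((u : F) ^ 2) P) := by
  rw [aeval_eq_sum_range, word]
  induction P.natDegree + 1 with
  | zero => simp [wordN, upper_zero]
  | succ N ih =>
    rw [wordN, ih, cj_upper, upper_pow, upper_add, Finset.sum_range_succ]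
    congr 2
    rw [Algebra.smul_def]
    conv_rhs => rw [← ZMod.natCast_zmod_val (P.coeff N), map_natCast]
    rw [zpow_natCast, Units.val_pow_eq_pow_val, mul_one, ← pow_mul, ← pow_mul, mul_comm N]

/-- three elements with the short relations -/
structure Pres (ω : Fˣ) (rep : F → (ZMod p)[X]) (G : Type*) [Group G] where
  a : G
  h : G
  w : G
  f : G →* Matrix.SpecialLinearGroup (Fin 2) F
  fa : f a = upper 1
  fh : f h = diagHom ω
  fw : f w = weyl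
  gen : Subgroup.closure ({a, h, w} : Set G) = ⊤
  ha : a ^ p = 1
  comm : ∀ m n : ℤ, Commute (cj a h m) (cj a h n)
  hm : word a h (minpoly (ZMod p) ((ω : F) ^ 2)) = 1
  hinv : w * h * w⁻¹ = h⁻¹
  b1 : a * (w * a * w⁻¹) * a = w
  b2 : word a h (rep ω) * (w * word a h (rep (ω : F)⁻¹) * w⁻¹) * word a h (rep ω) = h * w
  hw2 : Commute (w * w) a
  cyclic : ∀ x : Fˣ, x ∈ Subgroup.zpowers ω
  hrep : ∀ u : F, aeval ((ω : F) ^ 2) (rep u) = u

namespace Pres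

variable {ω : Fˣ} {rep : F → (ZMod p)[X]} {G : Type*} [Group G] (R : Pres ω rep G)

/-- root elements -/
def x (u : F) : G := word R.a R.h (rep u)

/-- opposite root elements -/
def y (u : F) : G := R.w * R.x (-u) * R.w⁻¹

theorem comm_nat (m n : ℕ) : Commute (cj R.a R.h m) (cj R.a R.h n) := R.comm m n

theorem x_eq {u : F} {P : (ZMod p)[X]} (e : aeval ((ω : F) ^ 2) P = u) : R.x u = word R.a R.h P :=
  word_congr R.comm_nat R.ha R.hm (by rw [R.hrep, e])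

theorem x_add (t u : F) : R.x t * R.x u = R.x (t + u) := by
  rw [R.x_eq (u := t + u) (P := rep t + rep u) (by rw [map_add, R.hrep, R.hrep]), word_add R.comm_nat R.ha]
  rfl

theorem x_one : R.x 1 = R.a := by rw [R.x_eq (P := 1) (map_one _), word_one]

theorem y_add (t u : F) : R.y t * R.y u = R.y (t + u) := by
  simp only [y, neg_add, ← R.x_add]; group

theorem h_x1 (u : F) : R.h * R.x u * R.h⁻¹ = R.x ((ω : F) ^ 2 * u) := by
  rw [R.x_eq (u := (ω : F) ^ 2 * u) (P := X * rep u) (by rw [map_mul, aeval_X, R.hrep]), word_X_mul]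
  rfl

theorem hz_x (e : ℤ) : ∀ u, R.h ^ e * R.x u * (R.h ^ e)⁻¹ = R.x (((ω ^ e : Fˣ) : F) ^ 2 * u) := by
  induction e with
  | zero => intro u; simp
  | succ k ih =>
    intro u
    rw [zpow_add_one, show R.h ^ (k : ℤ) * R.h * R.x u * (R.h ^ (k : ℤ) * R.h)⁻¹ =
      R.h ^ (k : ℤ) * (R.h * R.x u * R.h⁻¹) * (R.h ^ (k : ℤ))⁻¹ by group, R.h_x1, ih, zpow_add_one,
      Units.val_mul]
    congr 1; ring
  | pred k ih =>
    intro u
    have e1 : R.h⁻¹ * R.x u * R.h = R.x (((ω⁻¹ : Fˣ) : F) ^ 2 * u) := by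
      have := R.h_x1 (((ω⁻¹ : Fˣ) : F) ^ 2 * u)
      rw [show (ω : F) ^ 2 * (((ω⁻¹ : Fˣ) : F) ^ 2 * u) = u by simp] at this
      rw [← this]; group
    rw [zpow_sub_one, show R.h ^ (-(k : ℤ)) * R.h⁻¹ * R.x u * (R.h ^ (-(k : ℤ)) * R.h⁻¹)⁻¹ =
      R.h ^ (-(k : ℤ)) * (R.h⁻¹ * R.x u * R.h) * (R.h ^ (-(k : ℤ)))⁻¹ by group, e1, ih, zpow_sub_one,
      Units.val_mul]
    congr 1; ring

theorem w_hz (e : ℤ) : R.w * R.h ^ e * R.w⁻¹ = (R.h ^ e)⁻¹ := by
  rw [← conj_zpow, R.hinv, inv_zpow]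

theorem h_w (e : ℤ) : R.w * (R.h ^ e)⁻¹ = R.h ^ e * R.w := by
  have h1 := R.w_hz (-e)
  rw [zpow_neg, inv_inv] at h1
  calc R.w * (R.h ^ e)⁻¹ = R.w * (R.h ^ e)⁻¹ * R.w⁻¹ * R.w := by group
    _ = _ := by rw [h1]

theorem hz_y (e : ℤ) (u : F) : R.h ^ e * R.y u * (R.h ^ e)⁻¹ = R.y ((((ω ^ e : Fˣ) : F))⁻¹ ^ 2 * u) := by
  have h1 : R.h ^ e * R.w = R.w * (R.h ^ e)⁻¹ := (R.h_w e).symm
  have h2 : R.w⁻¹ * (R.h ^ e)⁻¹ = (R.h ^ (-e))⁻¹ * R.w⁻¹ := by
    rw [zpow_neg, inv_inv, ← mul_inv_rev, h1, mul_inv_rev, inv_inv]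
  calc R.h ^ e * R.y u * (R.h ^ e)⁻¹
      = (R.h ^ e * R.w) * R.x (-u) * (R.w⁻¹ * (R.h ^ e)⁻¹) := by rw [y]; group
    _ = R.w * (R.h ^ (-e) * R.x (-u) * (R.h ^ (-e))⁻¹) * R.w⁻¹ := by
      rw [h1, h2, zpow_neg, inv_inv]; group
    _ = _ := by
      rw [R.hz_x, y, zpow_neg, Units.val_inv_eq_inv_val]
      congr 3; ring

theorem x_mem (u : F) : R.x u ∈ Subgroup.closure ({R.a, R.h} : Set G) :=
  word_mem (fun n => mul_mem (mul_mem (zpow_mem (Subgroup.subset_closure (by simp)) _)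
    (Subgroup.subset_closure (by simp))) (inv_mem (zpow_mem (Subgroup.subset_closure (by simp)) _))) _

theorem ww_x (u : F) : Commute (R.w * R.w) (R.x u) := by
  have h1 : Commute (R.w * R.w) R.h := by
    have e : R.w * (R.w * R.h * R.w⁻¹) * R.w⁻¹ = R.h := by
      rw [R.hinv, ← zpow_one R.h, ← zpow_neg, R.w_hz, zpow_neg, inv_inv]
    rw [commute_iff_eq, ← mul_inv_eq_iff_eq_mul]
    calc R.w * R.w * R.h * (R.w * R.w)⁻¹ = R.w * (R.w * R.h * R.w⁻¹) * R.w⁻¹ := by group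
      _ = R.h := e
  have hle : Subgroup.closure ({R.a, R.h} : Set G) ≤ Subgroup.centralizer {R.w * R.w} :=
    (Subgroup.closure_le _).2 (by
      rintro g (rfl | rfl)
      exacts [Subgroup.mem_centralizer_singleton_iff.2 R.hw2.eq.symm,
        Subgroup.mem_centralizer_singleton_iff.2 h1.eq.symm])
  exact (Subgroup.mem_centralizer_singleton_iff.1 (hle (R.x_mem u))).symm

theorem w_x (u : F) : R.w * R.x u * R.w⁻¹ = R.y (-u) := by rw [y, neg_neg]

theorem w_y (u : F) : R.w * R.y u * R.w⁻¹ = R.x (-u) := by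
  rw [y, show R.w * (R.w * R.x (-u) * R.w⁻¹) * R.w⁻¹ = R.w * R.w * R.x (-u) * (R.w * R.w)⁻¹ by group,
    (R.ww_x _).eq, mul_inv_cancel_right]

theorem weyl_eq (e : ℤ) :
    R.x ((ω ^ e : Fˣ) : F) * R.y (-(((ω ^ e : Fˣ) : F))⁻¹) * R.x ((ω ^ e : Fˣ) : F) = R.h ^ e * R.w := by
  have shift : ∀ (t : F) (c k : ℤ), R.x t * R.y (-t⁻¹) * R.x t = R.h ^ c * R.w →
      R.x (((ω ^ k : Fˣ) : F) ^ 2 * t) * R.y (-((((ω ^ k : Fˣ) : F)) ^ 2 * t)⁻¹) *
        R.x (((ω ^ k : Fˣ) : F) ^ 2 * t) = R.h ^ (2 * k + c) * R.w := by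
    intro t c k e0
    rw [← R.hz_x k t, show -((((ω ^ k : Fˣ) : F)) ^ 2 * t)⁻¹ = (((ω ^ k : Fˣ) : F))⁻¹ ^ 2 * -t⁻¹ by
      rw [mul_inv, inv_pow, mul_neg], ← R.hz_y k]
    calc _ = R.h ^ k * (R.x t * R.y (-t⁻¹) * R.x t) * (R.h ^ k)⁻¹ := by group
      _ = R.h ^ k * R.h ^ c * (R.w * (R.h ^ k)⁻¹) := by rw [e0]; group
      _ = _ := by rw [R.h_w]; group
  have h0 : R.x 1 * R.y (-1⁻¹) * R.x 1 = R.h ^ (0 : ℤ) * R.w := by
    rw [inv_one, zpow_zero, one_mul, ← R.w_x 1, R.x_one, R.b1]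
  have h1 : R.x (ω : F) * R.y (-(ω : F)⁻¹) * R.x (ω : F) = R.h ^ (1 : ℤ) * R.w := by
    rw [zpow_one, ← R.w_x]; exact R.b2
  obtain ⟨k, rfl | rfl⟩ := Int.even_or_odd' e
  · have := shift 1 0 k h0
    rwa [mul_one, ← Units.val_pow_eq_pow_val, ← zpow_natCast, ← zpow_mul, mul_comm k, add_zero] at this
  · have := shift (ω : F) 1 k h1
    rwa [← Units.val_pow_eq_pow_val, ← zpow_natCast, ← zpow_mul, mul_comm k, ← Units.val_mul,
      ← zpow_add_one] at this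

include R in
theorem exists_zpow {t : F} (ht : t ≠ 0) : ∃ e : ℤ, ((ω ^ e : Fˣ) : F) = t := by
  obtain ⟨e, he⟩ := Subgroup.mem_zpowers_iff.1 (R.cyclic (Units.mk0 t ht))
  exact ⟨e, by rw [he, Units.val_mk0]⟩

theorem x_conj {t : F} (ht : t ≠ 0) (u : F) :
    (R.x t * R.y (-t⁻¹) * R.x t) * R.x u * (R.x t * R.y (-t⁻¹) * R.x t)⁻¹ = R.y (-(t⁻¹ ^ 2 * u)) := by
  obtain ⟨e, rfl⟩ := R.exists_zpow ht
  rw [R.weyl_eq, show R.h ^ e * R.w * R.x u * (R.h ^ e * R.w)⁻¹ = R.h ^ e * (R.w * R.x u * R.w⁻¹) * (R.h ^ e)⁻¹ by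
    group, R.w_x, R.hz_y, mul_neg]

theorem y_conj {t : F} (ht : t ≠ 0) (u : F) :
    (R.y t * R.x (-t⁻¹) * R.y t) * R.y u * (R.y t * R.x (-t⁻¹) * R.y t)⁻¹ = R.x (-(t⁻¹ ^ 2 * u)) := by
  have hn : -t ≠ 0 := neg_ne_zero.2 ht
  have hV : R.y t * R.x (-t⁻¹) * R.y t = R.w * (R.x (-t) * R.y (-(-t)⁻¹) * R.x (-t)) * R.w⁻¹ := by
    rw [← R.w_y t⁻¹, inv_neg, neg_neg, y]; group
  rw [hV, show R.y u = R.w * R.x (-u) * R.w⁻¹ from rfl]
  calc _ = R.w * ((R.x (-t) * R.y (-(-t)⁻¹) * R.x (-t)) * R.x (-u) *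
        (R.x (-t) * R.y (-(-t)⁻¹) * R.x (-t))⁻¹) * R.w⁻¹ := by group
    _ = _ := by rw [R.x_conj hn, R.w_y]; congr 1; field_simp

theorem fx (t : F) : R.f (R.x t) = upper t := by
  rw [x, map_word, R.fa, R.fh, word_upper, R.hrep]

theorem fy (t : F) : R.f (R.y t) = lower t := by
  rw [y, map_mul, map_mul, map_inv, R.fw, R.fx, weyl_upper, neg_neg]

theorem generated : Subgroup.closure (Set.range R.x ∪ Set.range R.y) = ⊤ := by
  have hx : ∀ t, R.x t ∈ Subgroup.closure (Set.range R.x ∪ Set.range R.y) :=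
    fun t => Subgroup.subset_closure (Or.inl ⟨t, rfl⟩)
  have hy : ∀ t, R.y t ∈ Subgroup.closure (Set.range R.x ∪ Set.range R.y) :=
    fun t => Subgroup.subset_closure (Or.inr ⟨t, rfl⟩)
  have hw : R.w ∈ Subgroup.closure (Set.range R.x ∪ Set.range R.y) := by
    have := mul_mem (mul_mem (hx ((ω ^ (0 : ℤ) : Fˣ) : F)) (hy (-(((ω ^ (0 : ℤ) : Fˣ) : F))⁻¹)))
      (hx ((ω ^ (0 : ℤ) : Fˣ) : F))
    rwa [R.weyl_eq, zpow_zero, one_mul] at this
  have hh : R.h ∈ Subgroup.closure (Set.range R.x ∪ Set.range R.y) := by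
    have := mul_mem (mul_mem (hx ((ω ^ (1 : ℤ) : Fˣ) : F)) (hy (-(((ω ^ (1 : ℤ) : Fˣ) : F))⁻¹)))
      (hx ((ω ^ (1 : ℤ) : Fˣ) : F))
    rw [R.weyl_eq, zpow_one] at this
    simpa using mul_mem this (inv_mem hw)
  rw [eq_top_iff, ← R.gen, Subgroup.closure_le]
  rintro g (rfl | rfl | rfl)
  exacts [R.x_one ▸ hx 1, hh, hw]

/-- the rank one relation system -/
def toRel1 : Rel1 F G where
  x := R.x
  y := R.y
  f := R.f
  x_add := R.x_add
  y_add := R.y_add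
  x_conj _ u ht := R.x_conj ht u
  y_conj _ u ht := R.y_conj ht u
  fx := R.fx
  fy := R.fy
  gen := R.generated

theorem bijective [Finite F] : Function.Bijective R.f := ⟨R.toRel1.injective, R.toRel1.surjective⟩

/-- the isomorphism with `SL₂` -/
noncomputable def equiv [Finite F] : G ≃* Matrix.SpecialLinearGroup (Fin 2) F := MulEquiv.ofBijective R.f R.bijective

end Pres

end CfsgLib.Known.SL2Bounded
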